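import Groth.Agent.Coherent.QcohOps
import Mathlib.CategoryTheory.Limits.Types.Products
import Mathlib.CategoryTheory.Limits.Preserves.Shapes.Products

/-!
# Modules of compatible families

Given modules `G i`, `H k` and maps `G (a k) ⟶ H k`, `G (b k) ⟶ H k`, the module whose sections are
the families with equal images in each `H k`.
-/

set_option autoImplicit false

universe u

open CategoryTheory CategoryTheory.Limits AlgebraicGeometry Opposite TopologicalSpace
open Groth.Agent.Coherent

namespace Groth.Agent.TwistLib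

variable {X : Scheme.{u}} {ι : Type u} {κ : Type u}

/-- Sections functor. -/
noncomputable abbrev sectionsAt (W : X.Opens) : X.Modules ⥤ Type u :=
  Scheme.Modules.toPresheaf X ⋙ (evaluation _ _).obj (op W) ⋙ forget AddCommGrpCat.{u}

instance preservesProducts_sectionsAt (W : X.Opens) :
    PreservesLimitsOfShape (Discrete ι) (sectionsAt W) := by
  have h1 : PreservesLimitsOfShape (Discrete ι) (Scheme.Modules.toPresheaf X) := inferInstance
  have h2 : PreservesLimitsOfShape (Discrete ι) ((evaluation (X.Opens)ᵒᵖ Ab.{u}).obj (op W)) := inferInstance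
  have h3 : PreservesLimitsOfShape (Discrete ι) (forget AddCommGrpCat.{u}) := inferInstance
  have h23 := @comp_preservesLimitsOfShape _ _ _ _ _ _ _ _ ((evaluation (X.Opens)ᵒᵖ Ab.{u}).obj (op W)) (forget AddCommGrpCat.{u}) h2 h3
  exact @comp_preservesLimitsOfShape _ _ _ _ _ _ _ _ (Scheme.Modules.toPresheaf X) _ h1 h23

theorem pi_sections_ext (G : ι → X.Modules) {W : X.Opens} {s t : Γ(∏ᶜ G, W)}
    (h : ∀ i, (Pi.π G i).app W s = (Pi.π G i).app W t) : s = t := by
  have hl := isLimitOfPreserves (sectionsAt W) (productIsProduct G)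
  exact ((Types.isLimit_iff_bijective_sectionOfCone _).1 ⟨hl⟩).1 (Subtype.ext (funext fun j => h j.as))

theorem pi_sections_surj (G : ι → X.Modules) {W : X.Opens} (t : ∀ i, Γ(G i, W)) :
    ∃ s : Γ(∏ᶜ G, W), ∀ i, (Pi.π G i).app W s = t i := by
  have hl := isLimitOfPreserves (sectionsAt W) (productIsProduct G)
  obtain ⟨s, hs⟩ := ((Types.isLimit_iff_bijective_sectionOfCone _).1 ⟨hl⟩).2
    ⟨fun j => t j.as, fun {j j'} f => by obtain rfl := Discrete.ext f.1.1; simp; rfl⟩
  exact ⟨s, fun i => congrFun (congrArg Subtype.val hs) ⟨i⟩⟩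

section

variable (G : ι → X.Modules) (H : κ → X.Modules) (a b : κ → ι)
  (ga : ∀ k, G (a k) ⟶ H k) (gb : ∀ k, G (b k) ⟶ H k)

/-- The difference map. -/
noncomputable def glueDiff : ∏ᶜ G ⟶ ∏ᶜ H :=
  Pi.lift fun k => Pi.π G (a k) ≫ ga k - Pi.π G (b k) ≫ gb k

/-- The module of compatible families. -/
noncomputable def glued : X.Modules := kernel (glueDiff G H a b ga gb)

/-- The members of a family. -/
noncomputable def gluedπ (i : ι) : glued G H a b ga gb ⟶ G i := kernel.ι _ ≫ Pi.π G i

theorem glued_condition (k : κ) :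
    gluedπ G H a b ga gb (a k) ≫ ga k = gluedπ G H a b ga gb (b k) ≫ gb k := by
  have e : glueDiff G H a b ga gb ≫ Pi.π H k = Pi.π G (a k) ≫ ga k - Pi.π G (b k) ≫ gb k := Pi.lift_π _ _
  have h : kernel.ι (glueDiff G H a b ga gb) ≫ glueDiff G H a b ga gb ≫ Pi.π H k = 0 := by
    rw [kernel.condition_assoc, zero_comp]
  rw [e, Preadditive.comp_sub, sub_eq_zero] at h
  exact h

theorem glued_ext {W : X.Opens} {s t : Γ(glued G H a b ga gb, W)}
    (h : ∀ i, (gluedπ G H a b ga gb i).app W s = (gluedπ G H a b ga gb i).app W t) : s = t :=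
  app_injective_of_mono (kernel.ι _) W (pi_sections_ext G fun i => h i)

theorem glued_surj {W : X.Opens} (t : ∀ i, Γ(G i, W))
    (h : ∀ k, (ga k).app W (t (a k)) = (gb k).app W (t (b k))) :
    ∃ s : Γ(glued G H a b ga gb, W), ∀ i, (gluedπ G H a b ga gb i).app W s = t i := by
  obtain ⟨p, hp⟩ := pi_sections_surj G t
  have h0 : (glueDiff G H a b ga gb).app W p = 0 := pi_sections_ext H fun k => by
    rw [map_zero]
    have e : glueDiff G H a b ga gb ≫ Pi.π H k = Pi.π G (a k) ≫ ga k - Pi.π G (b k) ≫ gb k := Pi.lift_π _ _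
    refine (congrArg (fun φ : ∏ᶜ G ⟶ H k => φ.app W p) e).trans ?_
    show (ga k).app W ((Pi.π G (a k)).app W p) - (gb k).app W ((Pi.π G (b k)).app W p) = 0
    rw [hp, hp, h, sub_self]
  obtain ⟨s, hs⟩ := kernel_sections_exact _ p h0
  exact ⟨s, fun i => (congrArg ((Pi.π G i).app W) hs).trans (hp i)⟩

end

end Groth.Agent.TwistLib
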