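import Groth.Agent.ProjLib.TildeBasics
import Groth.Agent.ProjLib.SpecLocus

/-!
# Sections of `M(n)~` over standard opens
-/

set_option autoImplicit false
set_option linter.unusedSectionVars false

universe u

open DirectSum HomogeneousIdeal AlgebraicGeometry CategoryTheory TopologicalSpace Opposite
open Groth.Agent.ProjLib

namespace Groth.Agent.TwistLib

variable {R A : Type u} [CommRing R] [CommRing A] [Algebra R A] {𝒜 : ℕ → Submodule R A}
  [GradedAlgebra 𝒜] {M : Type u} [AddCommGroup M] [Module R M] [Module A M] {ℳ : ℕ → Submodule R M}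
  [DirectSum.Decomposition ℳ] [SetLike.GradedSMul 𝒜 ℳ]

lemma pow_mem_deg {e : ℕ} {g : A} (hg : g ∈ 𝒜 e) (a : ℕ) : g ^ a ∈ 𝒜 (a * e) := by
  simpa using SetLike.pow_mem_graded a hg

/-- Multiplying by a homogeneous element shifts components. -/
lemma decompose_homogeneous_smul {e : ℕ} {b : A} (hb : b ∈ 𝒜 e) (X : M) (n : ℕ) :
    (decompose ℳ (b • X) (e + n) : M) = b • (decompose ℳ X n : M) := by
  classical
  induction X using DirectSum.Decomposition.inductionOn (ℳ := ℳ) with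
  | zero => simp
  | @homogeneous i m =>
    have hbm : b • (m : M) ∈ ℳ (e + i) := SetLike.GradedSMul.smul_mem hb m.2
    by_cases h : i = n
    · subst h
      rw [decompose_of_mem_same ℳ hbm, decompose_of_mem_same ℳ m.2]
    · rw [decompose_of_mem_ne ℳ hbm (by omega), decompose_of_mem_ne ℳ m.2 h, smul_zero]
  | add x y hx hy =>
    rw [smul_add, decompose_add, DirectSum.add_apply, Submodule.coe_add, hx, hy,
      decompose_add, DirectSum.add_apply, Submodule.coe_add, smul_add]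

/-- The homogeneous annihilator of a homogeneous element. -/
lemma isHomogeneous_annihilator {i : ℕ} {m : M} (hm : m ∈ ℳ i) :
    (LinearMap.ker (LinearMap.toSpanSingleton A M m)).IsHomogeneous 𝒜 := fun k c hc => by
  rw [LinearMap.mem_ker, LinearMap.toSpanSingleton_apply] at hc ⊢
  exact decompose_smul_eq_zero hm hc k

/-- A homogeneous element vanishing on `D₊(f)` is killed by a power of `f`. -/
lemma exists_pow_smul_eq_zero {i d : ℕ} {m : M} (hm : m ∈ ℳ i) {f : A} (hd : 0 < d) (hf : f ∈ 𝒜 d)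
    (h : ∀ x : ProjectiveSpectrum 𝒜, f ∉ x.asHomogeneousIdeal.toIdeal →
      ∃ c, c ∉ x.asHomogeneousIdeal.toIdeal ∧ c • m = 0) :
    ∃ N : ℕ, f ^ N • m = 0 := by
  obtain ⟨N, hN⟩ := mem_radical_of_zeroLocus_subset 𝒜 (isHomogeneous_annihilator (𝒜 := 𝒜) hm)
    (mem_irrelevant_of_pos 𝒜 hd hf) fun x hx => by
      by_contra hfx
      obtain ⟨c, hc, hcm⟩ := h x hfx
      exact hc (hx (LinearMap.mem_ker.2 hcm))
  exact ⟨N, LinearMap.mem_ker.1 hN⟩

variable {n : ℤ} {d : ℕ} {f : A}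

lemma pow_notMem {x : ProjectiveSpectrum 𝒜} (h : f ∉ x.asHomogeneousIdeal.toIdeal) (k : ℕ) :
    f ^ k ∉ x.asHomogeneousIdeal.toIdeal := fun h' => h (x.isPrime.mem_of_pow_mem k h')

/-- Near a point a section is one fraction with denominator cutting out the neighbourhood. -/
lemma exists_local_frac (hd : 0 < d) (hf : f ∈ 𝒜 d)
    (s : GrTilde.sect 𝒜 ℳ n (op (ProjectiveSpectrum.basicOpen 𝒜 f))) (x : ProjectiveSpectrum.basicOpen 𝒜 f) :
    ∃ (e i : ℕ) (g : A) (m : M) (hgf : ProjectiveSpectrum.basicOpen 𝒜 g ≤ ProjectiveSpectrum.basicOpen 𝒜 f),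
      0 < e ∧ g ∈ 𝒜 e ∧ m ∈ ℳ i ∧ (i : ℤ) = e + n ∧ x.1 ∈ ProjectiveSpectrum.basicOpen 𝒜 g ∧
      ∀ y : ProjectiveSpectrum.basicOpen 𝒜 g,
        ((s.1 ⟨y.1, hgf y.2⟩ : GrTilde.tildeAt 𝒜 ℳ n y.1) : GrTilde.LocMod 𝒜 (M := M) y.1) =
          LocalizedModule.mk m ⟨g, y.2⟩ := by
  classical
  obtain ⟨W, hxW, iW, i, j, ⟨m, hm⟩, ⟨h, hh⟩, hhW, hdeg, hw⟩ := s.2 x
  obtain ⟨e₀, g₀, he₀, hg₀, hxg₀, hgW⟩ := exists_homogeneous_basicOpen_subset 𝒜 W.2 hxW
  -- a power of `g₀` is a multiple of `h`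
  have hrad : g₀ ∈ (Ideal.span {h}).radical := by
    refine mem_radical_of_zeroLocus_subset 𝒜
      (Ideal.homogeneous_span 𝒜 _ (by rintro _ rfl; exact ⟨j, hh⟩)) (mem_irrelevant_of_pos 𝒜 he₀ hg₀)
      fun y hy => ?_
    by_contra hgy
    exact hhW ⟨y, hgW hgy⟩ (hy (Ideal.subset_span rfl))
  obtain ⟨a₀, ha₀⟩ := hrad
  let a := a₀ + j + n.natAbs + 1
  obtain ⟨c, hc⟩ : ∃ c, c * h = g₀ ^ a := Ideal.mem_span_singleton'.1 (Ideal.pow_mem_of_pow_mem _ ha₀ (by omega))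
  have hge : g₀ ^ a ∈ 𝒜 (a * e₀) := pow_mem_deg hg₀ a
  have hja : a ≤ a * e₀ := Nat.le_mul_of_pos_right a he₀
  let c' : A := decompose 𝒜 c (a * e₀ - j)
  have hc' : c' * h = g₀ ^ a := by
    have := coe_decompose_mul_of_right_mem 𝒜 (a := c) (a * e₀) hh
    rw [if_pos (by omega), hc, decompose_of_mem_same 𝒜 hge] at this
    exact this.symm
  have hgW' : ProjectiveSpectrum.basicOpen 𝒜 (g₀ ^ a) ≤ W := fun y hy =>
    hgW (fun hg => hy (Ideal.pow_mem_of_mem _ hg a (by omega)))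
  refine ⟨a * e₀, (((a * e₀ : ℕ) : ℤ) + n).toNat, g₀ ^ a, c' • m, hgW'.trans (leOfHom iW),
    by omega, hge, ?_, ?_, pow_notMem hxg₀ a, fun y => ?_⟩
  · rcases hdeg with hdeg | hdeg
    · have : (((a * e₀ : ℕ) : ℤ) + n).toNat = (a * e₀ - j) + i := by
        change (i : ℤ) = j + n at hdeg
        omega
      rw [this]
      exact SetLike.GradedSMul.smul_mem (decompose 𝒜 c (a * e₀ - j)).2 hm
    · rw [show m = 0 from hdeg, smul_zero]; exact zero_mem _
  · omega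
  · refine (hw ⟨y.1, hgW' y.2⟩).trans ?_
    refine LocalizedModule.mk_eq.mpr ⟨1, ?_⟩
    show (1 : A) • (g₀ ^ a) • m = (1 : A) • h • (c' • m)
    rw [smul_smul h c', mul_comm h c', hc']

/-- Every section over `D₊(f)` is one fraction with denominator a power of `f`. -/
theorem exists_frac (hd : 0 < d) (hf : f ∈ 𝒜 d)
    (s : GrTilde.sect 𝒜 ℳ n (op (ProjectiveSpectrum.basicOpen 𝒜 f))) :
    ∃ (k i : ℕ) (m : ℳ i), (i : ℤ) = k * d + n ∧
      ∀ x : ProjectiveSpectrum.basicOpen 𝒜 f,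
        ((s.1 x : GrTilde.tildeAt 𝒜 ℳ n x.1) : GrTilde.LocMod 𝒜 (M := M) x.1) =
          LocalizedModule.mk m.1 ⟨f ^ k, pow_notMem x.2 k⟩ := by
  classical
  choose e i g m hgf he hg hm hdeg hxg hsec using exists_local_frac hd hf s
  have hcomp : IsCompact (ProjectiveSpectrum.basicOpen 𝒜 f : Set (ProjectiveSpectrum 𝒜)) :=
    (Proj.isAffineOpen_basicOpen 𝒜 f hf hd).isCompact
  have hcov : (ProjectiveSpectrum.basicOpen 𝒜 f : Set (ProjectiveSpectrum 𝒜)) ⊆
      ⋃ x : ProjectiveSpectrum.basicOpen 𝒜 f, (ProjectiveSpectrum.basicOpen 𝒜 (g x) : Set (ProjectiveSpectrum 𝒜)) :=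
    fun x hx => Set.mem_iUnion.2 ⟨⟨x, hx⟩, hxg ⟨x, hx⟩⟩
  obtain ⟨t, ht⟩ := hcomp.elim_finite_subcover _ (fun x => (ProjectiveSpectrum.basicOpen 𝒜 (g x)).2) hcov
  have hN : ∀ l p, ∃ N : ℕ, (g l * g p) ^ N • (g p • m l - g l • m p) = 0 := by
    intro l p
    have hmem : g p • m l - g l • m p ∈ ℳ (e p + i l) := by
      refine sub_mem (SetLike.GradedSMul.smul_mem (hg p) (hm l)) ?_
      have : e p + i l = e l + i p := by
        have := hdeg l; have := hdeg p; omega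
      rw [this]
      exact SetLike.GradedSMul.smul_mem (hg l) (hm p)
    refine exists_pow_smul_eq_zero hmem (by have := he l; omega) (SetLike.mul_mem_graded (hg l) (hg p)) fun y hy => ?_
    have hyl : y ∈ ProjectiveSpectrum.basicOpen 𝒜 (g l) := fun h => hy (Ideal.mul_mem_right _ _ h)
    have hyp : y ∈ ProjectiveSpectrum.basicOpen 𝒜 (g p) := fun h => hy (Ideal.mul_mem_left _ _ h)
    obtain ⟨⟨c, hc⟩, heq⟩ := LocalizedModule.mk_eq.mp ((hsec l ⟨y, hyl⟩).symm.trans (hsec p ⟨y, hyp⟩))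
    replace heq : c • g p • m l = c • g l • m p := heq
    exact ⟨c, hc, by rw [smul_sub, heq, sub_self]⟩
  choose N hN using hN
  let K := t.sup fun l => t.sup fun p => N l p
  let g' := fun l => g l ^ (K + 1)
  let m' := fun l => g l ^ K • m l
  have heq : ∀ l ∈ t, ∀ p ∈ t, g' p • m' l = g' l • m' p := by
    intro l hl p hp
    have hle : N l p ≤ K := (Finset.le_sup (f := fun p => N l p) hp).trans
      (Finset.le_sup (f := fun l => t.sup fun p => N l p) hl)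
    obtain ⟨r, hr⟩ := Nat.exists_eq_add_of_le hle
    have h0 : (g l * g p) ^ K • (g p • m l - g l • m p) = 0 := by
      rw [hr, add_comm, pow_add, mul_smul, hN l p, smul_zero]
    rw [smul_sub, sub_eq_zero, smul_smul, smul_smul] at h0
    simp only [g', m', smul_smul]
    convert h0 using 2 <;> ring
  have hg' : ∀ l, g' l ∈ 𝒜 ((K + 1) * e l) := fun l => pow_mem_deg (hg l) _
  have hm' : ∀ l, m' l ∈ ℳ (K * e l + i l) := fun l => SetLike.GradedSMul.smul_mem (pow_mem_deg (hg l) _) (hm l)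
  obtain ⟨k₀, hk₀⟩ : f ∈ (Ideal.span (g' '' (t : Set _))).radical := by
    refine mem_radical_of_zeroLocus_subset 𝒜
      (Ideal.homogeneous_span 𝒜 _ (by rintro _ ⟨l, -, rfl⟩; exact ⟨_, hg' l⟩)) (mem_irrelevant_of_pos 𝒜 hd hf)
      fun y hy => ?_
    by_contra hfy
    obtain ⟨l, hl, hyl⟩ := Set.mem_iUnion₂.1 (ht (show y ∈ (ProjectiveSpectrum.basicOpen 𝒜 f : Set _) from hfy))
    exact hyl (y.isPrime.mem_of_pow_mem (K + 1) (hy (Ideal.subset_span ⟨l, hl, rfl⟩)))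
  let k := k₀ + n.natAbs
  have hk : f ^ k ∈ Submodule.span A (g' '' (t : Set _)) := Ideal.pow_mem_of_pow_mem _ hk₀ (Nat.le_add_right _ _)
  obtain ⟨c, hc⟩ := (Submodule.mem_span_image_finset_iff_exists_fun' A).1 hk
  let i₀ := (((k * d : ℕ) : ℤ) + n).toNat
  have hkd : k ≤ k * d := Nat.le_mul_of_pos_right k hd
  let X : M := ∑ l ∈ t, c l • m' l
  refine ⟨k, i₀, decompose ℳ X i₀, by simp only [i₀]; push_cast; omega, fun x => ?_⟩
  obtain ⟨p, hp, hxp⟩ := Set.mem_iUnion₂.1 (ht x.2)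
  have hX : g' p • X = f ^ k • m' p := by
    simp only [X, Finset.smul_sum, ← hc, Finset.sum_smul]
    refine Finset.sum_congr rfl fun l hl => ?_
    rw [smul_comm (g' p) (c l), heq l hl p hp, smul_smul]
    rfl
  have hcompo : g' p • (decompose ℳ X i₀ : M) = f ^ k • m' p := by
    rw [← decompose_homogeneous_smul (hg' p) X i₀, hX]
    have hmem : f ^ k • m' p ∈ ℳ (k * d + (K * e p + i p)) :=
      SetLike.GradedSMul.smul_mem (pow_mem_deg hf k) (hm' p)
    have : (K + 1) * e p + i₀ = k * d + (K * e p + i p) := by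
      have := hdeg p
      rw [add_mul, one_mul]
      simp only [i₀]
      omega
    rw [this]
    exact decompose_of_mem_same ℳ hmem
  refine (hsec p ⟨x.1, hxp⟩).trans ?_
  refine LocalizedModule.mk_eq.mpr ⟨⟨g p ^ K, pow_notMem hxp K⟩, ?_⟩
  show g p ^ K • f ^ k • m p = g p ^ K • g p • (decompose ℳ X i₀ : M)
  rw [smul_smul (g p ^ K) (g p), ← pow_succ, smul_comm (g p ^ K) (f ^ k)]
  exact hcompo.symm

/-- A fraction vanishing on `D₊(f)` has numerator killed by a power of `f`. -/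
theorem exists_pow_smul_eq_zero_of_frac (hd : 0 < d) (hf : f ∈ 𝒜 d) {k i : ℕ} {m : M} (hm : m ∈ ℳ i)
    (h : ∀ x : ProjectiveSpectrum.basicOpen 𝒜 f,
      (LocalizedModule.mk m ⟨f ^ k, pow_notMem x.2 k⟩ : GrTilde.LocMod 𝒜 (M := M) x.1) = 0) :
    ∃ N : ℕ, f ^ N • m = 0 := by
  refine exists_pow_smul_eq_zero hm hd hf fun y hy => ?_
  obtain ⟨⟨c, hc⟩, heq⟩ := LocalizedModule.mk_eq.mp ((h ⟨y, hy⟩).trans (LocalizedModule.zero_mk (1 : y.asHomogeneousIdeal.toIdeal.primeCompl)).symm)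
  exact ⟨c, hc, by simpa [Submonoid.smul_def] using heq⟩

/-- The section given by one fraction. -/
def fracSect (V : Opens (ProjectiveSpectrum.top 𝒜)) {i j : ℕ} (m : ℳ i) (t : 𝒜 j)
    (nin : ∀ x : V, t.1 ∉ x.1.asHomogeneousIdeal) (h : (i : ℤ) = j + n) : GrTilde.sect 𝒜 ℳ n (op V) :=
  ⟨fun x => ⟨LocalizedModule.mk m.1 ⟨t.1, nin x⟩, frac_mem_tildeAt n x.1 i j m t (nin x) h⟩,
   fun x => ⟨V, x.2, 𝟙 _, i, j, m, t, nin, Or.inl h, fun _ => rfl⟩⟩

theorem sect_ext {U : (Opens (ProjectiveSpectrum.top 𝒜))ᵒᵖ} {s t : GrTilde.sect 𝒜 ℳ n U}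
    (h : ∀ x : U.unop, (s.1 x).1 = (t.1 x).1) : s = t :=
  Subtype.ext (funext fun x => Subtype.ext (h x))

end Groth.Agent.TwistLib
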